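import Cfsg.Agent.H887.IF.K0c
import Cfsg.Agent.UGT.U2.FOne.OrthSub

/-!
# S5719, `N = 8`: the elements of `E Q` living on a 4-space of plus type (helper887)

`range12` : `h : Four Q e₁ f₁ e₂ f₂`, `g ∈ E Q` trivial on the orthogonal space of the four vectors; then
`g = h.rhoE M * h.swap.rhoE N` for some `M N`.
-/

set_option autoImplicit false
set_option linter.unusedSimpArgs false
set_option linter.unusedVariables false
set_option linter.unusedSectionVars false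

namespace Cfsg.Agent.H887.IF

open QuadraticMap Cfsg.Agent.LieClassical Cfsg.Agent.LieClassical.OrthCore Cfsg.Agent.LieClassical.OrthTrans
  Cfsg.Agent.LieClassical.OrthSimple Cfsg.Agent.AutOrth.SemiSim Cfsg.Agent.AutOrth.Gen
  Cfsg.Agent.H989.Gs.Gen Cfsg.Agent.H160.QSpin
open Cfsg.Agent.UGT.U2.FOne.Orth (Four)
open Cfsg.Agent.LieClassical.SLTwoUnipotent (u l coe_u coe_l)
open Matrix (SpecialLinearGroup)

variable {F V : Type*} [Field F] [AddCommGroup V] [Module F V] {Q : QuadraticForm F V} {e₁ f₁ e₂ f₂ : V}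

/-- the projection to the 4-space -/
def pW (Q : QuadraticForm F V) (e₁ f₁ e₂ f₂ v : V) : V :=
  polar Q f₁ v • e₁ + polar Q e₁ v • f₁ + polar Q f₂ v • e₂ + polar Q e₂ v • f₂

theorem pf_sub (h : Four Q e₁ f₁ e₂ f₂) (v : V) : Pf Q e₁ f₁ e₂ f₂ (v - pW Q e₁ f₁ e₂ f₂ v) := by
  obtain ⟨p1, p2, p3, p4, p5, p6, p7, p8, p9, p10, p11, p12, p13, p14, p15, p16⟩ := h.pols
  unfold pW
  refine ⟨?_, ?_, ?_, ?_⟩
  all_goals
    simp only [polar_sub_right, polar_add_right, polar_smul_right, smul_eq_mul, p1, p2, p3, p4, p5, p6, p7, p8, p9,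
      p10, p11, p12, p13, p14, p15, p16]
    ring

theorem polar_pW {v w : V} (hw : Pf Q e₁ f₁ e₂ f₂ w) : polar Q (pW Q e₁ f₁ e₂ f₂ v) w = 0 := by
  obtain ⟨m1, m2, m3, m4⟩ := hw
  unfold pW
  simp only [polar_add_left, polar_smul_left, m1, m2, m3, m4, smul_zero, add_zero]

/-- two linear maps agreeing on the four vectors and the orthogonal space agree -/
theorem ext_W (h : Four Q e₁ f₁ e₂ f₂) {x y : V →ₗ[F] V} (k1 : x e₁ = y e₁) (k2 : x f₁ = y f₁)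
    (k3 : x e₂ = y e₂) (k4 : x f₂ = y f₂) (k5 : ∀ w, Pf Q e₁ f₁ e₂ f₂ w → x w = y w) : x = y := by
  apply LinearMap.ext
  intro v
  have h5 := k5 _ (pf_sub h v)
  have h6 : v = (v - pW Q e₁ f₁ e₂ f₂ v) + pW Q e₁ f₁ e₂ f₂ v := by abel
  rw [h6, map_add, map_add, h5]
  congr 1
  unfold pW
  simp only [map_add, map_smul, k1, k2, k3, k4]

theorem ext_W' (h : Four Q e₁ f₁ e₂ f₂) {x y : ↥(E Q)} (k1 : ap x e₁ = ap y e₁) (k2 : ap x f₁ = ap y f₁)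
    (k3 : ap x e₂ = ap y e₂) (k4 : ap x f₂ = ap y f₂) (k5 : ∀ w, Pf Q e₁ f₁ e₂ f₂ w → ap x w = ap y w) : x = y := by
  apply ext_ap
  intro v
  exact LinearMap.congr_fun (ext_W h (x := ((x : V ≃ₗ[F] V) : V →ₗ[F] V)) (y := ((y : V ≃ₗ[F] V) : V →ₗ[F] V))
    k1 k2 k3 k4 k5) v

/-- invariance of the 4-space -/
theorem map_W (h : Four Q e₁ f₁ e₂ f₂) (hQ : Nondeg Q) {g : ↥(E Q)}
    (hg : ∀ w, Pf Q e₁ f₁ e₂ f₂ w → ap g w = w) {v : V} (hv : pW Q e₁ f₁ e₂ f₂ v = v) :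
    pW Q e₁ f₁ e₂ f₂ (ap g v) = ap g v := by
  have m := pf_sub h (ap g v)
  have key : ap g v - pW Q e₁ f₁ e₂ f₂ (ap g v) = 0 := by
    apply hQ
    intro w
    have n := pf_sub h w
    have h6 : w = (w - pW Q e₁ f₁ e₂ f₂ w) + pW Q e₁ f₁ e₂ f₂ w := by abel
    rw [h6, polar_add_right]
    have h7 : polar Q (ap g v - pW Q e₁ f₁ e₂ f₂ (ap g v)) (pW Q e₁ f₁ e₂ f₂ w) = 0 := by
      rw [polar_comm]
      exact polar_pW m
    rw [h7, add_zero, polar_sub_left, polar_pW n, sub_zero]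
    conv_lhs => rw [← hg _ n]
    rw [polar_ap, ← hv]
    exact polar_pW n
  exact (sub_eq_zero.1 key).symm

theorem pW_four (h : Four Q e₁ f₁ e₂ f₂) : pW Q e₁ f₁ e₂ f₂ e₁ = e₁ ∧ pW Q e₁ f₁ e₂ f₂ f₁ = f₁ ∧
    pW Q e₁ f₁ e₂ f₂ e₂ = e₂ ∧ pW Q e₁ f₁ e₂ f₂ f₂ = f₂ := by
  obtain ⟨p1, p2, p3, p4, p5, p6, p7, p8, p9, p10, p11, p12, p13, p14, p15, p16⟩ := h.pols
  unfold pW
  rw [p1, p2, p3, p4, p5, p6, p7, p8, p9, p10, p11, p12, p13, p14, p15, p16]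
  refine ⟨?_, ?_, ?_, ?_⟩ <;> module

theorem rhoE_perp (h : Four Q e₁ f₁ e₂ f₂) (M : SpecialLinearGroup (Fin 2) F) {w : V} (hw : Pf Q e₁ f₁ e₂ f₂ w) :
    ap (h.rhoE M) w = w := h.rho_perp hw.1 hw.2.1 hw.2.2.1 hw.2.2.2 M

theorem swap_perp (h : Four Q e₁ f₁ e₂ f₂) (M : SpecialLinearGroup (Fin 2) F) {w : V} (hw : Pf Q e₁ f₁ e₂ f₂ w) :
    ap (h.swap.rhoE M) w = w := h.swap.rho_perp hw.1 hw.2.1 hw.2.2.2 hw.2.2.1 M

/-- reflections in `e₂ - c f₂` -/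
theorem refl_four (h : Four Q e₁ f₁ e₂ f₂) {c : F} (hc : c ≠ 0) : ∃ hv : Q (e₂ - c • f₂) ≠ 0,
    Q (e₂ - c • f₂) = -c ∧ refl Q (e₂ - c • f₂) hv e₁ = e₁ ∧ refl Q (e₂ - c • f₂) hv f₁ = f₁ ∧
    refl Q (e₂ - c • f₂) hv e₂ = c • f₂ ∧ refl Q (e₂ - c • f₂) hv f₂ = c⁻¹ • e₂ ∧
    ∀ w, Pf Q e₁ f₁ e₂ f₂ w → refl Q (e₂ - c • f₂) hv w = w := by
  obtain ⟨p1, p2, p3, p4, p5, p6, p7, p8, p9, p10, p11, p12, p13, p14, p15, p16⟩ := h.pols
  have hQ : Q (e₂ - c • f₂) = -c := by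
    have : e₂ - c • f₂ = e₂ + (-c) • f₂ := by module
    rw [this, Q_add, QuadraticMap.map_smul, h.h2.left, h.h2.right, polar_smul_right, p7]
    simp
  have hv : Q (e₂ - c • f₂) ≠ 0 := by rw [hQ]; exact neg_ne_zero.2 hc
  have hi : (-c)⁻¹ = -c⁻¹ := inv_neg
  refine ⟨hv, hQ, ?_, ?_, ?_, ?_, ?_⟩
  · rw [refl_apply, polar_sub_left, polar_smul_left, p10, p12]; simp
  · rw [refl_apply, polar_sub_left, polar_smul_left, p14, p16]; simp
  · rw [refl_apply, polar_sub_left, polar_smul_left, p3, p8, hQ, smul_eq_mul]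
    have : (-c)⁻¹ * (0 - c * 1) = 1 := by field_simp; ring
    rw [this]
    module
  · rw [refl_apply, polar_sub_left, polar_smul_left, p7, p4, hQ, smul_eq_mul]
    have : (-c)⁻¹ * (1 - c * 0) = -c⁻¹ := by rw [hi]; ring
    rw [this]
    have h3 : f₂ - (-c⁻¹) • (e₂ - c • f₂) = c⁻¹ • e₂ + (1 - c⁻¹ * c) • f₂ := by module
    rw [h3, inv_mul_cancel₀ hc]
    module
  · intro w hw
    obtain ⟨m1, m2, m3, m4⟩ := hw
    rw [refl_apply, polar_sub_left, polar_smul_left, m3, m4]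
    simp

variable [Finite F] [FiniteDimensional F V] (h2 : (2 : F) ≠ 0) (hQ : Nondeg Q)
include h2 hQ

/-- the case of an element fixing `e₁`, `f₁` -/
theorem range_aux (h : Four Q e₁ f₁ e₂ f₂) {g : ↥(E Q)} (hg : ∀ w, Pf Q e₁ f₁ e₂ f₂ w → ap g w = w)
    (he : ap g e₁ = e₁) (hf : ap g f₁ = f₁) : ∃ M N, g = h.rhoE M * h.swap.rhoE N := by
  classical
  haveI : Finite V := Module.finite_of_finite F
  obtain ⟨p1, p2, p3, p4, p5, p6, p7, p8, p9, p10, p11, p12, p13, p14, p15, p16⟩ := h.pols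
  obtain ⟨w1, w2, w3, w4⟩ := pW_four h
  have ge := map_W h hQ hg w3
  have gf := map_W h hQ hg w4
  unfold pW at ge gf
  have q1 : polar Q e₁ (ap g e₂) = 0 := by
    have := polar_ap g e₁ e₂
    rwa [he, p9] at this
  have q2 : polar Q f₁ (ap g e₂) = 0 := by
    have := polar_ap g f₁ e₂
    rwa [hf, p13] at this
  have q3 : polar Q e₁ (ap g f₂) = 0 := by
    have := polar_ap g e₁ f₂
    rwa [he, p11] at this
  have q4 : polar Q f₁ (ap g f₂) = 0 := by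
    have := polar_ap g f₁ f₂
    rwa [hf, p15] at this
  rw [q1, q2, zero_smul, zero_smul, zero_add, zero_add] at ge
  rw [q3, q4, zero_smul, zero_smul, zero_add, zero_add] at gf
  obtain ⟨p, hp⟩ : ∃ p, p = polar Q f₂ (ap g e₂) := ⟨_, rfl⟩
  obtain ⟨r, hr⟩ : ∃ r, r = polar Q e₂ (ap g e₂) := ⟨_, rfl⟩
  obtain ⟨p', hp'⟩ : ∃ p', p' = polar Q f₂ (ap g f₂) := ⟨_, rfl⟩
  obtain ⟨r', hr'⟩ : ∃ r', r' = polar Q e₂ (ap g f₂) := ⟨_, rfl⟩
  rw [← hp, ← hr] at ge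
  rw [← hp', ← hr'] at gf
  have hQc : ∀ x y : F, Q (x • e₂ + y • f₂) = x * y := by
    intro x y
    rw [Q_add, QuadraticMap.map_smul, QuadraticMap.map_smul, h.h2.left, h.h2.right, polar_smul_left, polar_smul_right,
      p7]
    simp
  have k1 : p * r = 0 := by rw [← hQc, ge, Q_ap, h.h2.left]
  have k2 : p' * r' = 0 := by rw [← hQc, gf, Q_ap, h.h2.right]
  have k3 : p * r' + r * p' = 1 := by
    have h5 := polar_ap g e₂ f₂
    rw [← ge, ← gf, p7] at h5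
    simp only [polar_add_right, polar_add_left, polar_smul_right, polar_smul_left, smul_eq_mul, p3, p4, p7, p8] at h5
    linear_combination h5
  rcases mul_eq_zero.1 k1 with hp0 | hr0
  · -- reflection
    exfalso
    rw [hp0, zero_mul, zero_add] at k3
    have hr1 : r ≠ 0 := fun h0 => by rw [h0, zero_mul] at k3; exact zero_ne_one k3
    have hp1 : p' ≠ 0 := fun h0 => by rw [h0, mul_zero] at k3; exact zero_ne_one k3
    have hr2 : r' = 0 := (mul_eq_zero.1 k2).resolve_left hp1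
    rw [hp0, zero_smul, zero_add] at ge
    rw [hr2, zero_smul, add_zero] at gf
    obtain ⟨hv, hQv, a1, a2, a3, a4, a5⟩ := refl_four h hr1
    have hpr : p' = r⁻¹ := by field_simp; linear_combination k3
    have hgr : (g : V ≃ₗ[F] V) = refl Q (e₂ - r • f₂) hv := by
      apply LinearEquiv.toLinearMap_injective
      refine ext_W h ?_ ?_ ?_ ?_ ?_
      · exact he.trans a1.symm
      · exact hf.trans a2.symm
      · exact ge.symm.trans a3.symm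
      · refine gf.symm.trans ?_
        rw [hpr]
        exact a4.symm
      · intro w hw
        exact (hg w hw).trans (a5 w hw).symm
    have h5 := det_E h2 hQ g
    rw [hgr, det_refl] at h5
    have h6 := congrArg Units.val h5
    simp only [Units.val_neg, Units.val_one] at h6
    apply h2
    linear_combination -h6
  · rw [hr0, zero_mul, add_zero] at k3
    have hp1 : p ≠ 0 := fun h0 => by rw [h0, zero_mul] at k3; exact zero_ne_one k3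
    have hr1 : r' ≠ 0 := fun h0 => by rw [h0, mul_zero] at k3; exact zero_ne_one k3
    have hp2 : p' = 0 := (mul_eq_zero.1 k2).resolve_right hr1
    rw [hr0, zero_smul, add_zero] at ge
    rw [hp2, zero_smul, zero_add] at gf
    have hrp : r' = p⁻¹ := by field_simp; linear_combination k3
    obtain ⟨hv, hQv, a1, a2, a3, a4, a5⟩ := refl_four h (inv_ne_zero hp1)
    obtain ⟨hv', hQv', b1, b2, b3, b4, b5⟩ := refl_four h (one_ne_zero (α := F))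
    have hgr : (g : V ≃ₗ[F] V) = refl Q (e₂ - p⁻¹ • f₂) hv * refl Q (e₂ - (1 : F) • f₂) hv' := by
      apply LinearEquiv.toLinearMap_injective
      refine ext_W h ?_ ?_ ?_ ?_ ?_
      · change ap g e₁ = refl Q _ hv (refl Q _ hv' e₁)
        rw [b1, a1, he]
      · change ap g f₁ = refl Q _ hv (refl Q _ hv' f₁)
        rw [b2, a2, hf]
      · change ap g e₂ = refl Q _ hv (refl Q _ hv' e₂)
        rw [b3, map_smul, a4, ← ge, one_smul, inv_inv]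
      · change ap g f₂ = refl Q _ hv (refl Q _ hv' f₂)
        rw [b4, map_smul, a3, ← gf, hrp, inv_one, one_smul]
      · intro w hw
        change ap g w = refl Q _ hv (refl Q _ hv' w)
        rw [b5 w hw, a5 w hw, hg w hw]
    have hsp := spin_E h2 g
    have h5 : (⟨(g : V ≃ₗ[F] V), E_le_O g.2⟩ : O Q) = ⟨refl Q (e₂ - p⁻¹ • f₂) hv, refl_mem_O hv⟩ *
        ⟨refl Q (e₂ - (1 : F) • f₂) hv', refl_mem_O hv'⟩ := Subtype.ext hgr
    rw [h5, map_mul, spin_refl h2, spin_refl h2] at hsp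
    have hiff : IsSquare (Q (e₂ - p⁻¹ • f₂)) ↔ IsSquare (Q (e₂ - (1 : F) • f₂)) := by
      by_cases s1 : IsSquare (Q (e₂ - p⁻¹ • f₂)) <;> by_cases s2 : IsSquare (Q (e₂ - (1 : F) • f₂))
      · exact iff_of_true s1 s2
      · rw [if_pos s1, if_neg s2] at hsp
        exact absurd hsp (by decide)
      · rw [if_neg s1, if_pos s2] at hsp
        exact absurd hsp (by decide)
      · exact iff_of_false s1 s2
    rw [hQv, hQv'] at hiff
    have hsq := isSquare_mul_of (neg_ne_zero.2 (inv_ne_zero hp1)) (neg_ne_zero.2 (one_ne_zero (α := F))) h2 hiff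
    rw [mul_neg, mul_one, neg_neg] at hsq
    obtain ⟨m', hm'⟩ := hsq
    have hm0' : m' ≠ 0 := by
      intro h0
      rw [h0, mul_zero] at hm'
      exact inv_ne_zero hp1 hm'
    obtain ⟨m, hm⟩ : ∃ m, m = m'⁻¹ := ⟨_, rfl⟩
    have hm0 : m ≠ 0 := by rw [hm]; exact inv_ne_zero hm0'
    have hpm : p = m * m := by
      rw [hm, ← mul_inv, ← hm', inv_inv]
    obtain ⟨A, hA⟩ : ∃ A : SpecialLinearGroup (Fin 2) F, A = ⟨!![m⁻¹, 0; 0, m], by
      rw [Matrix.det_fin_two_of, inv_mul_cancel₀ hm0]; ring⟩ := ⟨_, rfl⟩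
    obtain ⟨B, hB⟩ : ∃ B : SpecialLinearGroup (Fin 2) F, B = ⟨!![m, 0; 0, m⁻¹], by
      rw [Matrix.det_fin_two_of, mul_inv_cancel₀ hm0]; ring⟩ := ⟨_, rfl⟩
    have A00 : A.1 0 0 = m⁻¹ := by rw [hA]; rfl
    have A01 : A.1 0 1 = 0 := by rw [hA]; rfl
    have A10 : A.1 1 0 = 0 := by rw [hA]; rfl
    have A11 : A.1 1 1 = m := by rw [hA]; rfl
    have B00 : B.1 0 0 = m := by rw [hB]; rfl
    have B01 : B.1 0 1 = 0 := by rw [hB]; rfl
    have B10 : B.1 1 0 = 0 := by rw [hB]; rfl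
    have B11 : B.1 1 1 = m⁻¹ := by rw [hB]; rfl
    refine ⟨A, B, ext_W' h ?_ ?_ ?_ ?_ ?_⟩
    · change ap g e₁ = h.rho A (h.swap.rho B e₁)
      rw [he, h.swap.rho_e1, B00, B10, zero_smul, add_zero, map_smul, h.rho_e1, A00, A10, zero_smul, add_zero, smul_smul,
        mul_inv_cancel₀ hm0, one_smul]
    · change ap g f₁ = h.rho A (h.swap.rho B f₁)
      rw [hf, h.swap.rho_f1, B11, B01, neg_zero, zero_smul, add_zero, map_smul, h.rho_f1, A11, A01, neg_zero, zero_smul,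
        add_zero, smul_smul, inv_mul_cancel₀ hm0, one_smul]
    · change ap g e₂ = h.rho A (h.swap.rho B e₂)
      rw [← ge, h.swap.rho_f2, B10, B00, neg_zero, zero_smul, zero_add, map_smul, h.rho_e2, A01, A11, zero_smul,
        zero_add, smul_smul, hpm]
    · change ap g f₂ = h.rho A (h.swap.rho B f₂)
      rw [← gf, h.swap.rho_e2, B01, B11, zero_smul, zero_add, map_smul, h.rho_f2, A10, A00, neg_zero, zero_smul,
        zero_add, smul_smul, hrp, hpm, mul_inv]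
    · intro w hw
      rw [ap_mul, swap_perp h _ hw, rhoE_perp h _ hw, hg w hw]

/-- **the elements of `E Q` living on a 4-space of plus type** -/
theorem range12 (h : Four Q e₁ f₁ e₂ f₂) {g : ↥(E Q)} (hg : ∀ w, Pf Q e₁ f₁ e₂ f₂ w → ap g w = w) :
    ∃ M N, g = h.rhoE M * h.swap.rhoE N := by
  obtain ⟨p1, p2, p3, p4, p5, p6, p7, p8, p9, p10, p11, p12, p13, p14, p15, p16⟩ := h.pols
  obtain ⟨w1, w2, w3, w4⟩ := pW_four h
  -- step 1
  have hge := map_W h hQ hg w1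
  have hInW : h.InW (ap g e₁) := by
    unfold Four.InW
    rw [h.rho_neg]
    have h5 : polar Q f₁ (ap g e₁) • e₁ + polar Q e₁ (ap g e₁) • f₁ + polar Q f₂ (ap g e₁) • e₂ +
        polar Q e₂ (ap g e₁) • f₂ = ap g e₁ := hge
    rw [h5]
    module
  have he0 : e₁ ≠ 0 := by
    intro h0
    rw [h0, polar_zero_left] at p5
    exact zero_ne_one p5
  have hge0 : ap g e₁ ≠ 0 := by
    intro h0
    apply he0
    rw [← ap_inv_ap g e₁, h0]
    exact map_zero _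
  obtain ⟨M1, N1, h1⟩ := h.exists_move h2 hge0 (by rw [Q_ap, h.h1.left]) hInW
  change ap (h.rhoE M1 * h.swap.rhoE N1) (ap g e₁) = e₁ at h1
  obtain ⟨g1, hg1⟩ : ∃ g1, g1 = h.rhoE M1 * h.swap.rhoE N1 * g := ⟨_, rfl⟩
  have hg1e : ap g1 e₁ = e₁ := by rw [hg1, ap_mul, h1]
  have hg1p : ∀ w, Pf Q e₁ f₁ e₂ f₂ w → ap g1 w = w := by
    intro w hw
    rw [hg1, ap_mul, ap_mul, hg w hw, swap_perp h _ hw, rhoE_perp h _ hw]
  -- step 2
  have hgf := map_W h hQ hg1p w2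
  unfold pW at hgf
  have q1 : polar Q e₁ (ap g1 f₁) = 1 := by
    have := polar_ap g1 e₁ f₁
    rwa [hg1e, p5] at this
  obtain ⟨x, hx⟩ : ∃ x, x = polar Q f₁ (ap g1 f₁) := ⟨_, rfl⟩
  obtain ⟨s, hs⟩ : ∃ s, s = polar Q f₂ (ap g1 f₁) := ⟨_, rfl⟩
  obtain ⟨t, ht⟩ : ∃ t, t = polar Q e₂ (ap g1 f₁) := ⟨_, rfl⟩
  rw [q1, ← hx, ← hs, ← ht, one_smul] at hgf
  have hxst : x + s * t = 0 := by
    have h5 : Q (ap g1 f₁) = 0 := by rw [Q_ap, h.h1.right]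
    rw [← hgf] at h5
    simp only [Q_add, QuadraticMap.map_smul, polar_add_left, polar_smul_left, polar_smul_right, smul_eq_mul, h.h1.left,
      h.h1.right, h.h2.left, h.h2.right, p5, p7, p9, p11, p13, p15] at h5
    linear_combination h5
  obtain ⟨g2, hg2⟩ : ∃ g2, g2 = h.swap.rhoE (u s) * (h.rhoE (u t) * g1) := ⟨_, rfl⟩
  have u00 : ∀ t : F, (u t : SpecialLinearGroup (Fin 2) F).1 0 0 = 1 := fun t => by simp [u]
  have u01 : ∀ t : F, (u t : SpecialLinearGroup (Fin 2) F).1 0 1 = t := fun t => by simp [u]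
  have u10 : ∀ t : F, (u t : SpecialLinearGroup (Fin 2) F).1 1 0 = 0 := fun t => by simp [u]
  have u11 : ∀ t : F, (u t : SpecialLinearGroup (Fin 2) F).1 1 1 = 1 := fun t => by simp [u]
  have hg2e : ap g2 e₁ = e₁ := by
    rw [hg2, ap_mul, ap_mul, hg1e]
    change h.swap.rho (u s) (h.rho (u t) e₁) = e₁
    rw [h.rho_e1, u00, u10, one_smul, zero_smul, add_zero, h.swap.rho_e1, u00, u10, one_smul, zero_smul, add_zero]
  have hg2f : ap g2 f₁ = f₁ := by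
    rw [hg2, ap_mul, ap_mul, ← hgf]
    have h5 : h.rho (u t) (x • e₁ + f₁ + s • e₂ + t • f₂) = f₁ + s • e₂ := by
      rw [map_add, map_add, map_add, map_smul, map_smul, map_smul, h.rho_e1, h.rho_f1, h.rho_e2, h.rho_f2, u00, u01,
        u10, u11]
      have h6 : x • ((1 : F) • e₁ + (0 : F) • e₂) + ((1 : F) • f₁ + (-t) • f₂) + s • (t • e₁ + (1 : F) • e₂) +
          t • (-(0 : F) • f₁ + (1 : F) • f₂) = (x + s * t) • e₁ + f₁ + s • e₂ := by module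
      rw [h6, hxst, zero_smul, zero_add]
    change h.swap.rho (u s) (h.rho (u t) (x • e₁ + f₁ + s • e₂ + t • f₂)) = f₁
    rw [h5, map_add, map_smul, h.swap.rho_f1, h.swap.rho_f2, u00, u01, u10, u11]
    module
  have hg2p : ∀ w, Pf Q e₁ f₁ e₂ f₂ w → ap g2 w = w := by
    intro w hw
    rw [hg2, ap_mul, ap_mul, hg1p w hw, rhoE_perp h _ hw, swap_perp h _ hw]
  obtain ⟨M, N, hMN⟩ := range_aux h2 hQ h hg2p hg2e hg2f
  -- back
  have hback : g = (h.swap.rhoE N1)⁻¹ * ((h.rhoE M1)⁻¹ * ((h.rhoE (u t))⁻¹ * ((h.swap.rhoE (u s))⁻¹ * g2))) := by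
    rw [hg2, hg1]
    group
  have hc := h.comm_swap
  have hcomm : ∀ A B, Commute (h.rhoE A) (h.swap.rhoE B) := fun A B => hc A B
  refine ⟨M1⁻¹ * (u t)⁻¹ * M, N1⁻¹ * (u s)⁻¹ * N, ?_⟩
  rw [hback, hMN]
  simp only [map_mul, map_inv]
  obtain ⟨a1, ha1⟩ : ∃ a, a = h.rhoE M1 := ⟨_, rfl⟩
  obtain ⟨a2, ha2⟩ : ∃ a, a = h.rhoE (u t) := ⟨_, rfl⟩
  obtain ⟨a3, ha3⟩ : ∃ a, a = h.rhoE M := ⟨_, rfl⟩
  obtain ⟨b1, hb1⟩ : ∃ a, a = h.swap.rhoE N1 := ⟨_, rfl⟩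
  obtain ⟨b2, hb2⟩ : ∃ a, a = h.swap.rhoE (u s) := ⟨_, rfl⟩
  obtain ⟨b3, hb3⟩ : ∃ a, a = h.swap.rhoE N := ⟨_, rfl⟩
  have c11 : Commute a1 b1 := by rw [ha1, hb1]; exact hcomm _ _
  have c21 : Commute a2 b1 := by rw [ha2, hb1]; exact hcomm _ _
  have c31 : Commute a3 b1 := by rw [ha3, hb1]; exact hcomm _ _
  have c32 : Commute a3 b2 := by rw [ha3, hb2]; exact hcomm _ _
  rw [← ha1, ← ha2, ← ha3, ← hb1, ← hb2, ← hb3]
  have d1 : b1⁻¹ * a1⁻¹ = a1⁻¹ * b1⁻¹ := (c11.inv_inv.eq).symm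
  have d2 : b1⁻¹ * a2⁻¹ = a2⁻¹ * b1⁻¹ := (c21.inv_inv.eq).symm
  have d3 : b1⁻¹ * a3 = a3 * b1⁻¹ := (c31.inv_right.eq).symm
  have d4 : b2⁻¹ * a3 = a3 * b2⁻¹ := (c32.inv_right.eq).symm
  have c12 : Commute a1 b2 := by rw [ha1, hb2]; exact hcomm _ _
  calc b1⁻¹ * (a1⁻¹ * (a2⁻¹ * (b2⁻¹ * (a3 * b3))))
      = (b1⁻¹ * a1⁻¹) * (a2⁻¹ * ((b2⁻¹ * a3) * b3)) := by group
    _ = (a1⁻¹ * b1⁻¹) * (a2⁻¹ * ((a3 * b2⁻¹) * b3)) := by rw [d1, d4]
    _ = a1⁻¹ * (b1⁻¹ * a2⁻¹) * (a3 * b2⁻¹ * b3) := by group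
    _ = a1⁻¹ * (a2⁻¹ * b1⁻¹) * (a3 * b2⁻¹ * b3) := by rw [d2]
    _ = a1⁻¹ * a2⁻¹ * (b1⁻¹ * a3) * (b2⁻¹ * b3) := by group
    _ = a1⁻¹ * a2⁻¹ * (a3 * b1⁻¹) * (b2⁻¹ * b3) := by rw [d3]
    _ = a1⁻¹ * a2⁻¹ * a3 * (b1⁻¹ * b2⁻¹ * b3) := by group

end Cfsg.Agent.H887.IF
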